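import Cfsg.Agent.H55.PSLAutTwo
import Cfsg.Agent.H55.PSLField
import Cfsg.Agent.H37.Card
import Cfsg.Agent.H43.AutPO.CountModels

/-!
An upper bound for the automorphism group of `PSL(2, 8)`.
-/

set_option autoImplicit false

namespace H16.CentDP

open H55

variable {F : Type} [Field F] [Fintype F]

theorem card_PSL_eight (h : Fintype.card F = 8) :
    Nat.card (Matrix.ProjectiveSpecialLinearGroup (Fin 2) F) = 504 := by
  have h1 := H37.card_PSL_fin (F := F) 2 (by norm_num)
  rw [Nat.card_eq_fintype_card (α := F), h, Fin.prod_univ_two] at h1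
  norm_num at h1
  omega

theorem card_mulAut_PSL_eight_le (h : Fintype.card F = 8) :
    Nat.card (MulAut (Matrix.ProjectiveSpecialLinearGroup (Fin 2) F)) ≤ 1512 := by
  classical
  haveI : Fact (Nat.Prime 2) := ⟨Nat.prime_two⟩
  set φ : GL (Fin 2) F →* MulAut (PSLn 2 F) := conjP with hφ
  have hcen : Subgroup.center (GL (Fin 2) F) ≤ φ.ker := by
    rw [Matrix.GeneralLinearGroup.center_eq_range_scalar]
    rintro _ ⟨c, rfl⟩
    exact conjP_scalar c
  have hr : Nat.card φ.range ≤ 504 := by
    rw [← Subgroup.index_ker]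
    have hd := Subgroup.index_dvd_of_le hcen
    have hG := (Subgroup.center (GL (Fin 2) F)).index_mul_card
    rw [H37.card_center_GL, Matrix.card_GL_field, Nat.card_eq_fintype_card (α := F), h,
      Fin.prod_univ_two] at hG
    norm_num at hG
    have : (Subgroup.center (GL (Fin 2) F)).index = 504 := by omega
    rw [this] at hd
    exact Nat.le_of_dvd (by norm_num) hd
  have hσ : Nat.card (F ≃+* F) = 3 := H43.AutPO.card_ringAut (p := 2) (by rw [h]; norm_num)
  haveI : Finite (F ≃+* F) := Nat.finite_of_card_ne_zero (by omega)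
  have hsur : Function.Surjective fun q : φ.range × (F ≃+* F) =>
      (q.1 : MulAut (PSLn 2 F)) * fieldP q.2 := fun α => by
    obtain ⟨g, σ, hg⟩ := aut_PSL_two α
    exact ⟨(⟨φ g, g, rfl⟩, σ), hg.symm⟩
  refine (Nat.card_le_card_of_surjective _ hsur).trans ?_
  rw [Nat.card_prod, hσ]
  omega

end H16.CentDP
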