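import Cfsg.Agent.H16.CentDP.Perm
import Cfsg.Agent.H6.Transfer
import Cfsg.Agent.H5.Burnside
import Cfsg.Prelude.Def_SporadicB
import Cfsg.Prelude.Def_TwoFusion

/-!
Groups with an involution centraliser `Z2 × A_m` and no subgroup of index two.
-/

set_option autoImplicit false
set_option linter.style.haveILetI false

namespace H16.CentDP

open Subgroup
open scoped commutatorElement

universe u

variable (G : Type u) [Group G] (m : ℕ)

/-- An involution in the centre of a Sylow two-subgroup with centraliser `Z2 × A_m`. -/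
structure Setup where
  J : G
  ord : orderOf J = 2
  P : Sylow 2 G
  memP : J ∈ (P : Subgroup G)
  comm : ∀ p ∈ (P : Subgroup G), p * J = J * p
  T : Subgroup G
  equiv : T ≃* alternatingGroup (Fin m)
  leT : T ≤ centralizer ({J} : Set G)
  decomp : ∀ g : G, g * J = J * g → g ∈ T ∨ g * J ∈ T
  notMem : J ∉ T
  noIndexTwo : ∀ N : Subgroup G, N.Normal → N.index ≠ 2

variable {G} {m} [Finite G] (S : Setup G m)

omit [Finite G] in
theorem Setup.sq : S.J * S.J = 1 := by
  rw [← pow_two, ← S.ord, pow_orderOf_eq_one]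

omit [Finite G] in
theorem Setup.J_ne : S.J ≠ 1 := fun h => by
  have := S.ord; rw [h, orderOf_one] at this; norm_num at this

omit [Finite G] in
theorem Setup.commT {a : G} (ha : a ∈ S.T) : a * S.J = S.J * a :=
  mem_centralizer_singleton_iff.1 (S.leT ha)

omit [Finite G] in
theorem Setup.ofInternal {J : G} {T : Subgroup G} (h2 : orderOf J = 2)
    (hd : Cfsg.IsInternalDirectProduct (zpowers J) T (centralizer ({J} : Set G))) :
    T ≤ centralizer ({J} : Set G) ∧ (∀ g : G, g * J = J * g → g ∈ T ∨ g * J ∈ T) ∧ J ∉ T := by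
  obtain ⟨-, hT, -, hinf, hsup⟩ := hd
  have hJ1 : J ≠ 1 := fun h => by rw [h, orderOf_one] at h2; norm_num at h2
  have hJJ : J * J = 1 := by rw [← pow_two, ← h2, pow_orderOf_eq_one]
  have hc : ∀ a ∈ T, a * J = J * a := fun a ha => mem_centralizer_singleton_iff.1 (hT ha)
  refine ⟨hT, fun g hg => ?_, fun h => hJ1 ?_⟩
  · let K : Subgroup G :=
      { carrier := {x | x * J = J * x ∧ (x ∈ T ∨ x * J ∈ T)}
        one_mem' := ⟨by simp, Or.inl (one_mem _)⟩
        mul_mem' := by
          rintro a b ⟨ha, ha'⟩ ⟨hb, hb'⟩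
          refine ⟨by rw [mul_assoc, hb, ← mul_assoc, ha, mul_assoc], ?_⟩
          rcases ha' with ha' | ha' <;> rcases hb' with hb' | hb'
          · exact Or.inl (mul_mem ha' hb')
          · exact Or.inr (by rw [mul_assoc]; exact mul_mem ha' hb')
          · refine Or.inr ?_
            rw [mul_assoc, hc b hb', ← mul_assoc]
            exact mul_mem ha' hb'
          · refine Or.inl ?_
            have := mul_mem ha' hb'
            rwa [show a * J * (b * J) = a * (J * b) * J by group, ← hb,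
              show a * (b * J) * J = a * b * (J * J) by group, hJJ, mul_one] at this
        inv_mem' := by
          rintro a ⟨ha, ha'⟩
          refine ⟨(show Commute a J from ha).inv_left.eq, ?_⟩
          rcases ha' with ha' | ha'
          · exact Or.inl (inv_mem ha')
          · refine Or.inr ?_
            have := inv_mem ha'
            rwa [ha, mul_inv_rev, inv_eq_of_mul_eq_one_right hJJ] at this }
    have hKC : centralizer ({J} : Set G) ≤ K := by
      rw [← hsup, sup_le_iff]
      exact ⟨(zpowers_le).2 ⟨rfl, Or.inr (by rw [hJJ]; exact one_mem _)⟩,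
        fun a ha => ⟨hc a ha, Or.inl ha⟩⟩
    exact (hKC (mem_centralizer_singleton_iff.2 hg)).2
  · exact (Subgroup.eq_bot_iff_forall _).1 hinf J (mem_inf.2 ⟨mem_zpowers J, h⟩)

/-- The part of the Sylow subgroup in `T` has index two. -/
theorem Setup.relIndex_inf : (S.T ⊓ (S.P : Subgroup G)).relIndex (S.P : Subgroup G) = 2 := by
  rw [Subgroup.relIndex, Subgroup.index_eq_two_iff]
  refine ⟨⟨S.J, S.memP⟩, fun b => ?_⟩
  simp only [mem_subgroupOf, Subgroup.coe_mul, mem_inf, b.2, mul_mem b.2 S.memP, and_true]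
  rcases S.decomp b (S.comm b b.2) with h | h
  · refine Or.inr ⟨h, fun h' => S.notMem ?_⟩
    have := mul_mem (inv_mem h) h'
    rwa [inv_mul_cancel_left] at this
  · refine Or.inl ⟨h, fun h' => S.notMem ?_⟩
    have := mul_mem (inv_mem h') h
    rwa [inv_mul_cancel_left] at this

/-- Every involution is conjugate to an involution of `T`. -/
theorem Setup.conj_into_T {u : G} (hu : orderOf u = 2) :
    ∃ g : G, g * u * g⁻¹ ∈ S.T ∧ g * u * g⁻¹ ∈ (S.P : Subgroup G) := by
  rcases H6.thompson_transfer S.P (S.T ⊓ (S.P : Subgroup G)) inf_le_right S.relIndex_inf u hu with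
    ⟨M, hM, hM2, -⟩ | ⟨g, hg⟩
  · exact absurd hM2 (S.noIndexTwo M hM)
  · exact ⟨g, (mem_inf.1 hg).1, (mem_inf.1 hg).2⟩

include S in
/-- The degree is four or five. -/
theorem Setup.degree : m = 4 ∨ m = 5 := by
  classical
  obtain ⟨g, hgT, -⟩ := S.conj_into_T S.ord
  set x : G := g * S.J * g⁻¹ with hx
  set y : alternatingGroup (Fin m) := S.equiv ⟨x, hgT⟩ with hy
  have hxx : x * x = 1 := by
    rw [hx, show g * S.J * g⁻¹ * (g * S.J * g⁻¹) = g * (S.J * S.J) * g⁻¹ by group, S.sq]; group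
  have hx1 : x ≠ 1 := fun h => S.J_ne (conj_eq_one_iff.1 h)
  have hy1 : y ≠ 1 := fun h => hx1 (congrArg Subtype.val (S.equiv.injective (h.trans (map_one S.equiv).symm)))
  have hyy : y * y = 1 := by
    rw [hy, ← map_mul, show (⟨x, hgT⟩ : S.T) * ⟨x, hgT⟩ = 1 from Subtype.ext hxx, map_one]
  by_contra hm
  rcases Nat.lt_or_ge m 6 with hlt | hge
  · have hsmall : m ≤ 3 := by omega
    have hodd : ∀ n ≤ 3, ∀ z : alternatingGroup (Fin n), z * z = 1 → z = 1 := by
      intro n hn
      interval_cases n <;> decide +kernel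
    exact hy1 (hodd m hsmall y hyy)
  · apply S.notMem
    have h1 := invol_mem_commutator (by rw [Fintype.card_fin]; exact hge) y hyy
    let ψ : alternatingGroup (Fin m) →* G :=
      (MulAut.conj g⁻¹).toMonoidHom.comp (S.T.subtype.comp S.equiv.symm.toMonoidHom)
    have hψy : ψ y = S.J := by
      simp only [ψ, hy, hx, MonoidHom.comp_apply, MulEquiv.coe_toMonoidHom, MulEquiv.symm_apply_apply,
        Subgroup.coe_subtype, MulAut.conj_apply]
      group
    have h2 : ψ y ∈ (⁅centralizer ({y} : Set _), centralizer ({y} : Set _)⁆).map ψ := ⟨y, h1, rfl⟩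
    rw [map_commutator, hψy] at h2
    have h3 : (centralizer ({y} : Set _)).map ψ ≤ centralizer ({S.J} : Set G) := by
      rintro _ ⟨z, hz, rfl⟩
      rw [mem_centralizer_singleton_iff, ← hψy, ← map_mul, ← map_mul,
        mem_centralizer_singleton_iff.1 hz]
    have h4 : ⁅centralizer ({S.J} : Set G), centralizer ({S.J} : Set G)⁆ ≤ S.T := by
      rw [commutator_le]
      intro a ha b hb
      rw [mem_centralizer_singleton_iff] at ha hb
      have key : ∀ c d : G, c * S.J = S.J * c → d * S.J = S.J * d →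
          ⁅c * S.J, d⁆ = ⁅c, d⁆ ∧ ⁅c, d * S.J⁆ = ⁅c, d⁆ := by
        intro c d hc hd
        constructor
        · simp only [commutatorElement_def, mul_inv_rev]
          calc c * S.J * d * (S.J⁻¹ * c⁻¹) * d⁻¹ = c * (S.J * d) * S.J⁻¹ * c⁻¹ * d⁻¹ := by group
            _ = c * d * c⁻¹ * d⁻¹ := by rw [← hd]; group
        · simp only [commutatorElement_def, mul_inv_rev]
          calc c * (d * S.J) * c⁻¹ * (S.J⁻¹ * d⁻¹) = c * d * (S.J * c⁻¹) * S.J⁻¹ * d⁻¹ := by group
            _ = c * d * c⁻¹ * d⁻¹ := by rw [← (show Commute c S.J from hc).inv_left.eq]; group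
      have mem : ∀ a ∈ S.T, ∀ b ∈ S.T, ⁅a, b⁆ ∈ S.T := fun a ha b hb => by
        rw [commutatorElement_def]
        exact mul_mem (mul_mem (mul_mem ha hb) (inv_mem ha)) (inv_mem hb)
      rcases S.decomp a ha with ha' | ha' <;> rcases S.decomp b hb with hb' | hb'
      · exact mem a ha' b hb'
      · rw [← (key a b ha hb).2]; exact mem a ha' _ hb'
      · rw [← (key a b ha hb).1]; exact mem _ ha' b hb'
      · rw [← (key a b ha hb).1, ← (key (a * S.J) b (S.commT ha') hb).2]; exact mem _ ha' _ hb'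
    exact h4 (commutator_mono h3 h3 h2)

include S in
theorem Setup.small : Small m := by
  rcases S.degree with rfl | rfl
  exacts [small_four, small_five]

omit [Finite G] in
/-- Two-part description of the elements of the centraliser. -/
theorem Setup.cases {g : G} (hg : g * S.J = S.J * g) :
    ∃ (t : S.T), g = t ∨ g = S.J * t := by
  rcases S.decomp g hg with h | h
  · exact ⟨⟨g, h⟩, Or.inl rfl⟩
  · refine ⟨⟨g * S.J, h⟩, Or.inr ?_⟩
    show g = S.J * (g * S.J)
    rw [hg, ← mul_assoc, S.sq, one_mul]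

omit [Finite G] in
theorem Setup.pow_cases {g : G} (t : S.T) (h : g = t ∨ g = S.J * t) (k : ℕ) :
    g ^ k = S.J ^ k * (t : G) ^ k ∨ g ^ k = (t : G) ^ k := by
  rcases h with rfl | rfl
  · exact Or.inr rfl
  · exact Or.inl ((show Commute S.J (t : G) from (S.commT t.2).symm).mul_pow k)

omit [Finite G] in
theorem Setup.eq_of_mem {t : S.T} {i : G} (hi : i = 1 ∨ i = S.J) {s : G} (hs : s ∈ S.T)
    (h : i * (t : G) = s) : i = 1 ∧ (t : G) = s := by
  rcases hi with rfl | rfl
  · exact ⟨rfl, by simpa using h⟩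
  · exact absurd (show S.J ∈ S.T by rw [eq_mul_inv_of_mul_eq h]; exact mul_mem hs (inv_mem t.2)) S.notMem

theorem Setup.card_cent :
    Nat.card (centralizer ({S.J} : Set G)) = 2 * Nat.card (alternatingGroup (Fin m)) := by
  classical
  rw [← Nat.card_congr S.equiv.toEquiv, show (2 : ℕ) = Nat.card (Fin 2) by simp, ← Nat.card_prod]
  symm
  refine Nat.card_eq_of_bijective (fun q => ⟨S.J ^ q.1.val * (q.2 : G), ?_⟩) ⟨?_, ?_⟩
  · refine mul_mem (pow_mem (mem_centralizer_singleton_iff.2 rfl) _) (S.leT q.2.2)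
  · rintro ⟨i, a⟩ ⟨j, b⟩ h
    have h' : S.J ^ i.val * (a : G) = S.J ^ j.val * (b : G) := congrArg Subtype.val h
    fin_cases i <;> fin_cases j <;> simp at h'
    · exact Prod.ext rfl (by simpa using h')
    · exact absurd (S.eq_of_mem (Or.inr rfl) a.2 h'.symm).1 S.J_ne
    · exact absurd (S.eq_of_mem (Or.inr rfl) b.2 h').1 S.J_ne
    · exact Prod.ext rfl (by simpa using h')
  · rintro ⟨g, hg⟩
    obtain ⟨t, h | h⟩ := S.cases (mem_centralizer_singleton_iff.1 hg)
    · exact ⟨(0, t), Subtype.ext (by simp [h])⟩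
    · exact ⟨(1, t), Subtype.ext (by simp [h])⟩

omit [Finite G] in
theorem Setup.P_le : (S.P : Subgroup G) ≤ centralizer ({S.J} : Set G) :=
  fun p hp => mem_centralizer_singleton_iff.2 (S.comm p hp)

theorem Setup.card_P : Nat.card (S.P : Subgroup G) = 8 := by
  haveI : Fact (Nat.Prime 2) := ⟨Nat.prime_two⟩
  have hd := S.P.subtype S.P_le
  have h := (S.P.subtype S.P_le).card_eq_multiplicity
  rw [S.card_cent] at h
  rw [Sylow.coe_subtype, Nat.card_congr (subgroupOfEquivOfLe S.P_le).toEquiv] at h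
  rw [h]
  have key : ∀ n : ℕ, Odd n → (2 ^ 3 * n).factorization 2 = 3 := fun n hn => by
    have hn0 : n ≠ 0 := by rintro rfl; simp at hn
    rw [Nat.factorization_mul (by norm_num) hn0, Finsupp.add_apply, Nat.factorization_pow,
      Finsupp.smul_apply, Nat.Prime.factorization_self Nat.prime_two,
      Nat.factorization_eq_zero_of_not_dvd hn.not_two_dvd_nat]
    rfl
  rcases S.small.card with h' | h' <;> rw [h']
  · rw [show 2 * 12 = 2 ^ 3 * 3 from rfl, key 3 (by decide)]; rfl
  · rw [show 2 * 60 = 2 ^ 3 * 15 from rfl, key 15 (by decide)]; rfl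

theorem Setup.P_sq {p : G} (hp : p ∈ (S.P : Subgroup G)) : p * p = 1 := by
  have h8 : p ^ 8 = 1 := by
    rw [← S.card_P]
    exact congrArg Subtype.val (pow_card_eq_one' (x := (⟨p, hp⟩ : (S.P : Subgroup G))))
  obtain ⟨t, ht⟩ := S.cases (S.comm p hp)
  have hJ : ∀ k, Even k → S.J ^ k = 1 := by
    rintro k ⟨j, rfl⟩; rw [← two_mul, pow_mul, pow_two, S.sq, one_pow]
  have ht8 : (t : G) ^ 8 = 1 := by
    rcases S.pow_cases t ht 8 with h | h
    · rwa [hJ 8 (by decide), one_mul, h8, eq_comm] at h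
    · rw [← h, h8]
  have ht2 : (t : G) ^ 2 = 1 := by
    have := S.small.two_elt (S.equiv t) (by rw [← map_pow, show t ^ 8 = 1 from Subtype.ext ht8, map_one])
    rw [← map_pow] at this
    exact congrArg Subtype.val (S.equiv.injective (this.trans (map_one S.equiv).symm))
  rcases S.pow_cases t ht 2 with h | h
  · rw [← pow_two, h, hJ 2 even_two, one_mul, ht2]
  · rw [← pow_two, h, ht2]

theorem Setup.P_comm {p q : G} (hp : p ∈ (S.P : Subgroup G)) (hq : q ∈ (S.P : Subgroup G)) :
    p * q = q * p := by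
  have h := S.P_sq (mul_mem hp hq)
  have e : ∀ {x : G}, x ∈ (S.P : Subgroup G) → x⁻¹ = x := fun hx =>
    inv_eq_of_mul_eq_one_right (S.P_sq hx)
  have := inv_eq_of_mul_eq_one_right h
  rw [mul_inv_rev, e hp, e hq] at this
  exact this.symm

/-- All involutions are conjugate. -/
theorem Setup.isConj {u : G} (hu : orderOf u = 2) : ∃ g : G, g * S.J * g⁻¹ = u := by
  obtain ⟨a, ha, -⟩ := S.conj_into_T hu
  obtain ⟨b, hb, -⟩ := S.conj_into_T S.ord
  have key : ∀ x : G, orderOf x = 2 → ∀ hx : x ∈ S.T,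
      (S.equiv ⟨x, hx⟩) ^ 2 = 1 ∧ S.equiv ⟨x, hx⟩ ≠ 1 := by
    intro x hx2 hx
    refine ⟨by rw [← map_pow, show (⟨x, hx⟩ : S.T) ^ 2 = 1 from Subtype.ext (by
      show x ^ 2 = 1; rw [← hx2]; exact pow_orderOf_eq_one x), map_one], fun h => ?_⟩
    have : x = 1 := congrArg Subtype.val (S.equiv.injective (h.trans (map_one S.equiv).symm))
    rw [this, orderOf_one] at hx2
    norm_num at hx2
  have hord : ∀ (g x : G), orderOf x = 2 → orderOf (g * x * g⁻¹) = 2 := fun g x h => by
    rw [show g * x * g⁻¹ = MulAut.conj g x from rfl, MulEquiv.orderOf_eq, h]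
  obtain ⟨c, hc⟩ := S.small.conj _ _ (key _ (hord b _ S.ord) hb).1 (key _ (hord b _ S.ord) hb).2
    (key _ (hord a _ hu) ha).1 (key _ (hord a _ hu) ha).2
  obtain ⟨c', rfl⟩ := S.equiv.surjective c
  rw [← map_inv, ← map_mul, ← map_mul] at hc
  have h' : (c' : G) * (b * S.J * b⁻¹) * (c' : G)⁻¹ = a * u * a⁻¹ :=
    congrArg Subtype.val (S.equiv.injective hc)
  refine ⟨a⁻¹ * c' * b, ?_⟩
  calc a⁻¹ * c' * b * S.J * (a⁻¹ * c' * b)⁻¹ = a⁻¹ * ((c' : G) * (b * S.J * b⁻¹) * (c' : G)⁻¹) * a := by group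
    _ = u := by rw [h']; group

/-- The Sylow subgroup is its own centraliser. -/
theorem Setup.cent_P {g : G} (hg : ∀ p ∈ (S.P : Subgroup G), g * p = p * g) :
    g ∈ (S.P : Subgroup G) := by
  classical
  haveI : Fact (Nat.Prime 2) := ⟨Nat.prime_two⟩
  obtain ⟨t, ht⟩ := S.cases (hg _ S.memP)
  -- two involutions of `T` inside the Sylow subgroup
  have hQ : Nat.card (S.T ⊓ (S.P : Subgroup G) : Subgroup G) = 4 := by
    have h := Subgroup.card_mul_index ((S.T ⊓ (S.P : Subgroup G)).subgroupOf (S.P : Subgroup G))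
    rw [show ((S.T ⊓ (S.P : Subgroup G)).subgroupOf (S.P : Subgroup G)).index = 2 from S.relIndex_inf,
      Nat.card_congr (subgroupOfEquivOfLe (inf_le_right (a := S.T))).toEquiv, S.card_P] at h
    omega
  set Q := (S.T ⊓ (S.P : Subgroup G) : Subgroup G)
  haveI := Fintype.ofFinite Q
  have h2 : 1 < ((Finset.univ : Finset Q).erase 1).card := by
    rw [Finset.card_erase_of_mem (Finset.mem_univ _), Finset.card_univ, ← Nat.card_eq_fintype_card, hQ]
    norm_num
  obtain ⟨v, hv, w, hw, hvw⟩ := Finset.one_lt_card.1 h2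
  simp only [Finset.mem_erase, Finset.mem_univ, and_true] at hv hw
  let emb : Q →* alternatingGroup (Fin m) := S.equiv.toMonoidHom.comp (inclusion inf_le_left)
  have hinj : Function.Injective emb := S.equiv.injective.comp (inclusion_injective _)
  have hsq : ∀ x : Q, emb x ^ 2 = 1 := fun x => by
    rw [← map_pow, show x ^ 2 = 1 from Subtype.ext (by
      show (x : G) ^ 2 = 1; rw [pow_two]; exact S.P_sq x.2.2), map_one]
  have hne : ∀ x : Q, x ≠ 1 → emb x ≠ 1 := fun x hx h => hx (hinj (h.trans (map_one emb).symm))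
  have hcomm : ∀ x : Q, (t : G) * x = x * t := by
    intro x
    rcases ht with h | h
    · rw [← h]; exact hg x x.2.2
    · refine mul_left_cancel (a := S.J) ?_
      calc S.J * ((t : G) * x) = g * x := by rw [h, mul_assoc]
        _ = x * g := hg x x.2.2
        _ = S.J * ((x : G) * t) := by rw [h, ← mul_assoc, S.comm _ x.2.2, mul_assoc]
  have hb := S.small.cent (emb v) (emb w)
    ⟨hsq v, hne v hv, hsq w, hne w hw, fun h => hvw (hinj h),
      by rw [← map_mul, ← map_mul, show v * w = w * v from Subtype.ext (S.P_comm v.2.2 w.2.2)]⟩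
    (S.equiv t) ⟨by
      show S.equiv t * S.equiv _ = S.equiv _ * S.equiv t
      rw [← map_mul, ← map_mul]; exact congrArg _ (Subtype.ext (hcomm v)), by
      show S.equiv t * S.equiv _ = S.equiv _ * S.equiv t
      rw [← map_mul, ← map_mul]; exact congrArg _ (Subtype.ext (hcomm w))⟩
  have ht2 : (t : G) ^ 2 = 1 := by
    rw [← map_pow] at hb
    exact congrArg Subtype.val (S.equiv.injective (hb.trans (map_one S.equiv).symm))
  have hg2 : g ^ 2 = 1 := by
    rcases S.pow_cases t ht 2 with h | h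
    · rw [h, pow_two, S.sq, one_mul, ht2]
    · rw [h, ht2]
  have hZ : IsPGroup 2 (zpowers g) := by
    intro x
    obtain ⟨k, hk⟩ := x.2
    refine ⟨1, Subtype.ext ?_⟩
    show (x : G) ^ 2 ^ 1 = 1
    rw [pow_one, ← show g ^ k = (x : G) from hk, ← zpow_natCast, ← zpow_mul, mul_comm, zpow_mul,
      zpow_natCast, hg2, one_zpow]
  have hnorm : zpowers g ≤ normalizer ((S.P : Subgroup G) : Set G) := by
    rw [zpowers_le, mem_normalizer_iff]
    intro x
    constructor
    · intro hx; rw [hg x hx, mul_inv_cancel_right]; exact hx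
    · intro hx
      have h' := hg _ hx
      have : g * x * g⁻¹ = x := by
        calc g * x * g⁻¹ = g⁻¹ * (g * (g * x * g⁻¹)) := by group
          _ = g⁻¹ * ((g * x * g⁻¹) * g) := by rw [h']
          _ = x := by group
      rwa [this] at hx
  have hsup := S.P.3 (IsPGroup.to_sup_of_normal_right' hZ S.P.2 hnorm) le_sup_right
  exact hsup ▸ (le_sup_left : zpowers g ≤ _) (mem_zpowers g)

include S in
/-- An odd normal subgroup is trivial. -/
theorem Setup.odd_normal {N : Subgroup G} (hN : N.Normal) (hodd : Odd (Nat.card N)) : N = ⊥ := by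
  have hno : ∀ n ∈ N, n ^ 2 = 1 → n = 1 := by
    intro n hn h2
    have hd : orderOf n ∣ Nat.gcd 2 (Nat.card N) :=
      Nat.dvd_gcd (orderOf_dvd_of_pow_eq_one h2) (Subgroup.orderOf_dvd_natCard N hn)
    rw [(Nat.coprime_two_left.2 hodd).gcd_eq_one, Nat.dvd_one, orderOf_eq_one_iff] at hd
    exact hd
  have hJ : ∀ n ∈ N, n * S.J = S.J * n → n = 1 := by
    intro n hn hc
    obtain ⟨t, ht⟩ := S.cases hc
    have hcb : ∀ c : S.T, (c : G) * n * (c : G)⁻¹ * n⁻¹ = (c * t * c⁻¹ * t⁻¹ : S.T) := by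
      intro c
      simp only [Subgroup.coe_mul, Subgroup.coe_inv]
      rcases ht with h | h <;> rw [h]
      calc (c : G) * (S.J * t) * (c : G)⁻¹ * (S.J * t)⁻¹
          = ((c : G) * S.J) * t * (c : G)⁻¹ * (t : G)⁻¹ * S.J⁻¹ := by group
        _ = (S.J * (c * t * c⁻¹ * t⁻¹ : S.T)) * S.J⁻¹ := by
            rw [S.commT c.2]; simp only [Subgroup.coe_mul, Subgroup.coe_inv]; group
        _ = _ := by
            rw [← S.commT (c * t * c⁻¹ * t⁻¹ : S.T).2, mul_inv_cancel_right]
            simp only [Subgroup.coe_mul, Subgroup.coe_inv]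
    by_cases hb : (S.equiv t) ^ 2 = 1
    · rw [← map_pow] at hb
      have ht2 : (t : G) ^ 2 = 1 :=
        congrArg Subtype.val (S.equiv.injective (hb.trans (map_one S.equiv).symm))
      apply hno n hn
      rcases S.pow_cases t ht 2 with h | h
      · rw [h, pow_two, S.sq, one_mul, ht2]
      · rw [h, ht2]
    · exfalso
      have hkN : ∀ c : S.T, ((c * t * c⁻¹ * t⁻¹ : S.T) : G) ∈ N := fun c => by
        rw [← hcb c]; exact mul_mem (hN.conj_mem n hn _) (inv_mem hn)
      have hfin : ∀ k : S.T, (k : G) ∈ N → (S.equiv k) ^ 2 = 1 → S.equiv k = 1 := fun k hk h2 => by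
        rw [← map_pow] at h2
        have := congrArg Subtype.val (S.equiv.injective (h2.trans (map_one S.equiv).symm))
        rw [show k = 1 from Subtype.ext (hno _ hk this), map_one]
      obtain ⟨c, hc'⟩ := S.small.odd _ hb
      obtain ⟨c, rfl⟩ := S.equiv.surjective c
      rcases hc' with ⟨h1, h2⟩ | ⟨d, h1, h2⟩
      · simp only [← map_inv, ← map_mul] at h1 h2
        exact h2 (hfin _ (hkN c) h1)
      · obtain ⟨d, rfl⟩ := S.equiv.surjective d
        simp only [← map_inv, ← map_mul] at h1 h2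
        refine h2 (hfin _ ?_ h1)
        rw [Subgroup.coe_mul, Subgroup.coe_mul, Subgroup.coe_mul, Subgroup.coe_inv, Subgroup.coe_inv]
        exact mul_mem (hN.conj_mem _ (hkN c) _) (inv_mem (hkN c))
  have hinvert : ∀ u : G, orderOf u = 2 → ∀ n ∈ N, u * n * u⁻¹ = n⁻¹ := by
    intro u hu
    obtain ⟨g, rfl⟩ := S.isConj hu
    set u := g * S.J * g⁻¹ with hud
    have hfix : ∀ n ∈ N, n * u = u * n → n = 1 := by
      intro n hn h
      have h' : g⁻¹ * n * g * S.J = S.J * (g⁻¹ * n * g) := by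
        calc g⁻¹ * n * g * S.J = g⁻¹ * (n * u) * g := by rw [hud]; group
          _ = S.J * (g⁻¹ * n * g) := by rw [h, hud]; group
      have := hJ _ (by simpa using hN.conj_mem n hn g⁻¹) h'
      calc n = g * (g⁻¹ * n * g) * g⁻¹ := by group
        _ = 1 := by rw [this]; group
    have huu : u * u = 1 := by rw [← pow_two, ← hu]; exact pow_orderOf_eq_one u
    have hu' : u⁻¹ = u := inv_eq_of_mul_eq_one_right huu
    let f : N → N := fun a => ⟨(a : G)⁻¹ * (u * a * u⁻¹), mul_mem (inv_mem a.2) (hN.conj_mem _ a.2 _)⟩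
    have hf : Function.Injective f := by
      intro a b h
      have h' : (a : G)⁻¹ * (u * a * u⁻¹) = (b : G)⁻¹ * (u * b * u⁻¹) := congrArg Subtype.val h
      have := hfix ((b : G) * (a : G)⁻¹) (mul_mem b.2 (inv_mem a.2)) (by
        calc (b : G) * (a : G)⁻¹ * u = (b : G) * ((a : G)⁻¹ * (u * a * u⁻¹)) * (u * (a : G)⁻¹) := by group
          _ = _ := by rw [h']; group)
      exact (Subtype.ext (mul_inv_eq_one.1 this)).symm
    clear_value u
    intro n hn
    obtain ⟨a, ha⟩ := (Finite.injective_iff_surjective.1 hf) ⟨n, hn⟩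
    have ha' : (a : G)⁻¹ * (u * a * u⁻¹) = n := congrArg Subtype.val ha
    rw [← ha', mul_inv_rev, inv_inv, hu', mul_inv_rev, hu']
    calc u * ((a : G)⁻¹ * (u * a * u)) * u = u * (a : G)⁻¹ * u * a * (u * u) := by group
      _ = _ := by rw [huu, mul_inv_rev, hu']; group
  rw [eq_bot_iff_forall]
  intro n hn
  obtain ⟨g, hgT, hgP⟩ := S.conj_into_T S.ord
  set u := g * S.J * g⁻¹ with hu
  have ou : orderOf u = 2 := by
    rw [hu, show g * S.J * g⁻¹ = MulAut.conj g S.J from rfl, MulEquiv.orderOf_eq, S.ord]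
  have hcu : u * S.J = S.J * u := S.comm u hgP
  have ouJ : orderOf (u * S.J) = 2 := by
    refine orderOf_eq_prime ?_ fun h => S.notMem ?_
    · rw [pow_two]; exact S.P_sq (mul_mem hgP S.memP)
    · rw [eq_inv_of_mul_eq_one_right h]; exact inv_mem hgT
  have h1 := hinvert _ ouJ n hn
  have h2 : u * S.J * n * (u * S.J)⁻¹ = n := by
    calc u * S.J * n * (u * S.J)⁻¹ = u * (S.J * n * S.J⁻¹) * u⁻¹ := by group
      _ = (u * n * u⁻¹)⁻¹ := by rw [hinvert _ S.ord n hn]; group
      _ = n := by rw [hinvert _ ou n hn, inv_inv]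
  rw [h2] at h1
  exact hno n hn (by rw [pow_two]; nth_rw 2 [h1]; exact mul_inv_cancel n)

end H16.CentDP
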