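import Cfsg.Agent.H16.CentDP.Main
import Cfsg.Agent.H16.CentDP.AutPSLEight
import Cfsg.Agent.H16.Janko1.Uniq.Unique
import Cfsg.Agent.H97.J1Simple
import Cfsg.Agent.H97.J1Invol
import Cfsg.Agent.H5.Eight.Reduce
import Cfsg.Agent.H67.CAIdent

/-!
The two degrees.
-/

set_option autoImplicit false
set_option linter.style.haveILetI false

namespace H16.CentDP

open Subgroup

universe u

variable {G : Type u} [Group G] {m : ℕ} [Finite G] (S : Setup G m)

theorem Setup.simple_of_le (hns : ¬ Group.IsSolvable G)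
    (hle : centralizer ({S.J} : Set G) ≤ S.M) : IsSimpleGroup G := by
  have htop : S.M = ⊤ := by
    have := S.sup_eq_top hns
    rwa [sup_eq_left.2 hle] at this
  haveI := S.isSimple_M hns
  haveI : Nontrivial G := ⟨⟨S.J, 1, S.J_ne⟩⟩
  refine ((MulEquiv.subgroupCongr htop).trans Subgroup.topEquiv).symm.isSimpleGroup

theorem five_isoJ1 (S : Setup G 5) (hns : ¬ Group.IsSolvable G) : Cfsg.Spor.IsoJ1 G := by
  classical
  haveI : Fact (Nat.Prime 2) := ⟨Nat.prime_two⟩
  have hle : centralizer ({S.J} : Set G) ≤ S.M := by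
    haveI hA : IsSimpleGroup S.T := S.equiv.isSimpleGroup
    have hTM : S.T ≤ S.M := by
      rcases IsSimpleGroup.eq_bot_or_eq_top_of_normal (S.M.subgroupOf S.T) inferInstance with h | h
      · exfalso
        obtain ⟨g, hgT, -⟩ := S.conj_into_T S.ord
        have hmem : (⟨g * S.J * g⁻¹, hgT⟩ : S.T) ∈ S.M.subgroupOf S.T :=
          (inferInstance : S.M.Normal).conj_mem _ S.J_mem_M g
        rw [h, mem_bot] at hmem
        exact S.J_ne (conj_eq_one_iff.1 (congrArg Subtype.val hmem))
      · exact subgroupOf_eq_top.1 h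
    intro g hg
    obtain ⟨t, h | h⟩ := S.cases (mem_centralizer_singleton_iff.1 hg)
    · rw [h]; exact hTM t.2
    · rw [h]; exact mul_mem S.J_mem_M (hTM t.2)
  haveI := S.simple_of_le hns hle
  let e : centralizer ({S.J} : Set G) ≃* Multiplicative (ZMod 2) × alternatingGroup (Fin 5) := by
    let JC : Subgroup G := zpowers S.J
    let φ : JC × S.T →* centralizer ({S.J} : Set G) :=
      { toFun := fun q => ⟨(q.1 : G) * (q.2 : G), mul_mem
          ((zpowers_le).2 (mem_centralizer_singleton_iff.2 rfl) q.1.2) (S.leT q.2.2)⟩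
        map_one' := Subtype.ext (one_mul _)
        map_mul' := fun a b => Subtype.ext (by
          have hc : Commute (a.2 : G) (b.1 : G) := by
            obtain ⟨k, hk⟩ := b.1.2
            rw [show (b.1 : G) = S.J ^ k from hk.symm]
            exact (show Commute (a.2 : G) S.J from S.commT a.2.2).zpow_right k
          show (a.1 : G) * b.1 * ((a.2 : G) * b.2) = (a.1 : G) * a.2 * ((b.1 : G) * b.2)
          rw [mul_assoc, ← mul_assoc (b.1 : G), ← hc.eq]
          group) }
    have hφ : Function.Bijective φ := by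
      rw [Nat.bijective_iff_surjective_and_card]
      refine ⟨fun g => ?_, ?_⟩
      · obtain ⟨t, h | h⟩ := S.cases (mem_centralizer_singleton_iff.1 g.2)
        · exact ⟨(1, t), Subtype.ext (by show (1 : G) * t = g; rw [one_mul, h])⟩
        · exact ⟨(⟨S.J, mem_zpowers _⟩, t), Subtype.ext h.symm⟩
      · rw [S.card_cent, Nat.card_prod, Nat.card_zpowers, S.ord, Nat.card_congr S.equiv.toEquiv]
    have hJC : Nat.card JC = 2 := by rw [Nat.card_zpowers, S.ord]
    exact (MulEquiv.ofBijective φ hφ).symm.trans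
      (MulEquiv.prodCongr (mulEquivOfPrimeCardEq (p := 2) hJC (by simp)) S.equiv)
  obtain ⟨α⟩ := H16.J1.Uniq.iso_tableGroup_of_equiv S.J ⟨S.ord, S.P, S.memP, S.comm⟩ e
  haveI := H97.J1.isSimpleGroup_J1
  obtain ⟨f⟩ := H97.J1.nonempty_centEquiv
  have hkey : ∀ k : ℕ, Odd k → (2 ^ 3 * k).factorization 2 = 3 := fun k hk => by
    have hk0 : k ≠ 0 := by rintro rfl; simp at hk
    rw [Nat.factorization_mul (by norm_num) hk0, Finsupp.add_apply, Nat.factorization_pow,
      Finsupp.smul_apply, Nat.Prime.factorization_self Nat.prime_two,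
      Nat.factorization_eq_zero_of_not_dvd hk.not_two_dvd_nat]
    rfl
  have huc : Cfsg.IsTwoCentralInvolution H97.J1.tInv := by
    refine H16.J1.Uniq.twoCentral_of_card _ H97.J1.orderOf_tInv ?_
    rw [Nat.card_congr f.toEquiv, H16.J1.card_M, H97.J1.card_J1,
      show (120 : ℕ) = 2 ^ 3 * 15 from rfl, show (175560 : ℕ) = 2 ^ 3 * 21945 from rfl,
      hkey 15 (by decide), hkey 21945 (by decide)]
  obtain ⟨β⟩ := H16.J1.Uniq.iso_tableGroup_of_equiv _ huc f
  exact ⟨α.trans β.symm⟩

theorem four_sq_mem (S : Setup G 4) {x : G} (hx : x * S.J = S.J * x) (h2 : x * x = 1) :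
    x ∈ (S.P : Subgroup G) := by
  classical
  obtain ⟨t, ht⟩ := S.cases hx
  have ht2 : (t : G) ^ 2 = 1 := by
    rcases S.pow_cases t ht 2 with h | h
    · rwa [pow_two, h2, pow_two, S.sq, one_mul, eq_comm] at h
    · rw [← h, pow_two, h2]
  have hsq : ∀ y : S.T, (y : G) ^ 2 = 1 → S.equiv y ^ 2 = 1 := fun y hy => by
    rw [← map_pow, show y ^ 2 = 1 from Subtype.ext hy, map_one]
  have hQ : Nat.card (S.T ⊓ (S.P : Subgroup G) : Subgroup G) = 4 := by
    have h := Subgroup.card_mul_index ((S.T ⊓ (S.P : Subgroup G)).subgroupOf (S.P : Subgroup G))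
    rw [show ((S.T ⊓ (S.P : Subgroup G)).subgroupOf (S.P : Subgroup G)).index = 2 from S.relIndex_inf,
      Nat.card_congr (subgroupOfEquivOfLe (inf_le_right (a := S.T))).toEquiv, S.card_P] at h
    omega
  set Q := (S.T ⊓ (S.P : Subgroup G) : Subgroup G) with hQd
  haveI := Fintype.ofFinite Q
  let emb : Q → alternatingGroup (Fin 4) := fun q => S.equiv ⟨q, q.2.1⟩
  have hinj : Function.Injective emb := fun a b h =>
    Subtype.ext (congrArg (fun y : S.T => (y : G)) (S.equiv.injective h))
  have himg : Finset.univ.image emb = Finset.univ.filter fun b => b ^ 2 = 1 := by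
    refine Finset.eq_of_subset_of_card_le ?_ ?_
    · intro b hb
      obtain ⟨q, -, rfl⟩ := Finset.mem_image.1 hb
      exact Finset.mem_filter.2 ⟨Finset.mem_univ _, hsq _ (by
        show (q : G) ^ 2 = 1; rw [pow_two]; exact S.P_sq q.2.2)⟩
    · rw [four_invol_card, Finset.card_image_of_injective _ hinj, Finset.card_univ,
        ← Nat.card_eq_fintype_card, hQ]
  have : S.equiv t ∈ Finset.univ.image emb := by
    rw [himg]; exact Finset.mem_filter.2 ⟨Finset.mem_univ _, hsq t ht2⟩
  obtain ⟨q, -, hq⟩ := Finset.mem_image.1 this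
  have htP : (t : G) ∈ (S.P : Subgroup G) := by
    rw [← show (q : G) = t from congrArg Subtype.val (S.equiv.injective hq)]
    exact q.2.2
  rcases ht with h | h
  · rwa [h]
  · rw [h]; exact mul_mem S.memP htP

theorem four_cent_le_normalizer (S : Setup G 4) :
    centralizer ({S.J} : Set G) ≤ normalizer ((S.P : Subgroup G) : Set G) := by
  intro g hg
  have key : ∀ g ∈ centralizer ({S.J} : Set G), ∀ p ∈ (S.P : Subgroup G),
      g * p * g⁻¹ ∈ (S.P : Subgroup G) := by
    intro g hg p hp
    refine four_sq_mem S (mem_centralizer_singleton_iff.1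
      (mul_mem (mul_mem hg (S.P_le hp)) (inv_mem hg))) ?_
    rw [show g * p * g⁻¹ * (g * p * g⁻¹) = g * (p * p) * g⁻¹ by group, S.P_sq hp]; group
  rw [mem_normalizer_iff]
  refine fun p => ⟨key g hg p, fun h => ?_⟩
  have := key g⁻¹ (inv_mem hg) _ h
  simpa [mul_assoc] using this

theorem four_not_le (S : Setup G 4) (hns : ¬ Group.IsSolvable G) :
    ¬ centralizer ({S.J} : Set G) ≤ S.M := by
  classical
  intro hle
  haveI : Fact (Nat.Prime 2) := ⟨Nat.prime_two⟩
  haveI := S.simple_of_le hns hle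
  have hP8 := S.card_P
  have hS : Cfsg.IsElementaryAbelian 2 (S.P : Subgroup G) :=
    ⟨⟨⟨fun a b => Subtype.ext (S.P_comm a.2 b.2)⟩⟩, fun a ha => by rw [pow_two]; exact S.P_sq ha⟩
  set N := normalizer ((S.P : Subgroup G) : Set G) with hN
  have htrans : ∀ a ∈ (S.P : Subgroup G), a ≠ 1 → ∀ b ∈ (S.P : Subgroup G), b ≠ 1 →
      ∃ n ∈ N, n * a * n⁻¹ = b := by
    intro a ha ha1 b hb hb1
    obtain ⟨n, hn, rfl⟩ := S.exists_normalizer ha ha1
    obtain ⟨k, hk, rfl⟩ := S.exists_normalizer hb hb1
    exact ⟨k * n⁻¹, mul_mem hk (inv_mem hn), by group⟩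
  have hCP : centralizer ((S.P : Subgroup G) : Set G) = (S.P : Subgroup G) := by
    refine le_antisymm (fun g hg => S.cent_P fun p hp => (hg p hp).symm) ?_
    intro g hg p hp
    exact S.P_comm hp hg
  have hC24 : Nat.card (centralizer ({S.J} : Set G)) = 24 := by
    rw [S.card_cent, Nat.card_eq_fintype_card]
    decide +kernel
  have hsolv : ∀ t : G, orderOf t = 2 → Group.IsSolvable ↥(centralizer ({t} : Set G)) := by
    intro t ht
    obtain ⟨g, rfl⟩ := S.isConj ht
    set C := centralizer ({S.J} : Set G)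
    haveI : Group.IsSolvable C := by
      haveI hn : ((S.P : Subgroup G).subgroupOf C).Normal :=
        (normal_subgroupOf_iff_le_normalizer S.P_le).2 (four_cent_le_normalizer S)
      haveI : Group.IsSolvable ((S.P : Subgroup G).subgroupOf C) :=
        Group.isSolvable_of_comm fun a b => Subtype.ext (Subtype.ext (S.P_comm a.2 b.2))
      have hq : Squarefree (Nat.card (C ⧸ (S.P : Subgroup G).subgroupOf C)) := by
        have h := Subgroup.card_eq_card_quotient_mul_card_subgroup ((S.P : Subgroup G).subgroupOf C)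
        rw [hC24, Nat.card_congr (subgroupOfEquivOfLe S.P_le).toEquiv, hP8] at h
        rw [show Nat.card (C ⧸ (S.P : Subgroup G).subgroupOf C) = 3 by omega]
        exact Nat.prime_three.squarefree
      haveI := IsZGroup.of_squarefree hq
      exact Group.isSolvable_of_ker_le_range ((S.P : Subgroup G).subgroupOf C).subtype
        (QuotientGroup.mk' ((S.P : Subgroup G).subgroupOf C))
        (by rw [QuotientGroup.ker_mk', Subgroup.range_subtype])
    have hsur : centralizer ({g * S.J * g⁻¹} : Set G) ≤ C.map (MulAut.conj g).toMonoidHom := by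
      intro z hz
      rw [mem_centralizer_singleton_iff] at hz
      refine ⟨g⁻¹ * z * g, mem_centralizer_singleton_iff.2 ?_, by simp [mul_assoc]⟩
      calc g⁻¹ * z * g * S.J = g⁻¹ * (z * (g * S.J * g⁻¹)) * g := by group
        _ = S.J * (g⁻¹ * z * g) := by rw [hz]; group
    haveI : Group.IsSolvable (C.map (MulAut.conj g).toMonoidHom) :=
      Group.isSolvable_of_surjective ((MulAut.conj g).toMonoidHom.subgroupMap_surjective C)
    exact Group.isSolvable_of_isSolvable_injective (Subgroup.inclusion_injective hsur)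
  refine H5.Eight.automizer_ne_twentyone S.P hS hP8 hsolv htrans ?_
  rw [hCP]
  let O := {x : G // x ∈ (S.P : Subgroup G) ∧ x ≠ 1}
  let act : MulAction N O :=
    { smul := fun n x => ⟨(n : G) * x.1 * (n : G)⁻¹, (mem_normalizer_iff.1 n.2 x.1).1 x.2.1,
        fun h => x.2.2 (conj_eq_one_iff.1 h)⟩
      one_smul := fun x => Subtype.ext (by show (1 : G) * x.1 * (1 : G)⁻¹ = x.1; group)
      mul_smul := fun a b x => Subtype.ext (by
        show ((a : G) * b) * x.1 * ((a : G) * b)⁻¹ = a * ((b : G) * x.1 * (b : G)⁻¹) * (a : G)⁻¹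
        group) }
  letI := act
  haveI : MulAction.IsPretransitive N O := ⟨fun a b => by
    obtain ⟨n, hn, h⟩ := htrans a.1 a.2.1 a.2.2 b.1 b.2.1 b.2.2
    exact ⟨⟨n, hn⟩, Subtype.ext h⟩⟩
  have hO : Nat.card O = 7 := by
    have h : {x : G | x ∈ (S.P : Subgroup G) ∧ x ≠ 1} = ((S.P : Subgroup G) : Set G) \ {1} := by
      ext; exact ⟨fun h => ⟨h.1, h.2⟩, fun h => ⟨h.1, h.2⟩⟩
    show Nat.card ({x : G | x ∈ (S.P : Subgroup G) ∧ x ≠ 1} : Set G) = 7
    rw [Nat.card_coe_set_eq, h, Set.ncard_sdiff_singleton_of_mem (one_mem _), ← Nat.card_coe_set_eq]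
    show Nat.card (S.P : Subgroup G) - 1 = 7
    rw [hP8]
  let j : O := ⟨S.J, S.memP, S.J_ne⟩
  have hst : MulAction.stabilizer N j = (centralizer ({S.J} : Set G)).subgroupOf N := by
    ext n
    rw [MulAction.mem_stabilizer_iff, mem_subgroupOf, mem_centralizer_singleton_iff, Subtype.ext_iff]
    exact mul_inv_eq_iff_eq_mul
  have hcardN : Nat.card N = 168 := by
    have h := (MulAction.stabilizer N j).index_mul_card
    rw [MulAction.index_stabilizer_of_transitive, hO, hst,
      Nat.card_congr (subgroupOfEquivOfLe (four_cent_le_normalizer S)).toEquiv, hC24] at h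
    omega
  have h := ((S.P : Subgroup G).subgroupOf N).card_mul_index
  rw [Nat.card_congr (subgroupOfEquivOfLe (le_normalizer (H := (S.P : Subgroup G)))).toEquiv, hP8,
    hcardN] at h
  show ((S.P : Subgroup G).subgroupOf N).index = 21
  omega

theorem four_iso (S : Setup G 4) (hns : ¬ Group.IsSolvable G) :
    ∃ (F : Type) (_ : Field F) (_ : Fintype F), Fintype.card F = 8 ∧
      Nonempty (G ≃* MulAut (Matrix.ProjectiveSpecialLinearGroup (Fin 2) F)) := by
  classical
  haveI : Fact (Nat.Prime 2) := ⟨Nat.prime_two⟩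
  set C := centralizer ({S.J} : Set G) with hC
  have hP8 := S.card_P
  have hC24 : Nat.card C = 24 := by
    rw [hC, S.card_cent, Nat.card_eq_fintype_card]
    decide +kernel
  have hPMC : (S.P : Subgroup G) ≤ S.M ⊓ C := le_inf S.P_le_M S.P_le
  have hMC : S.M ⊓ C = (S.P : Subgroup G) := by
    refine (Subgroup.eq_of_le_of_card_ge hPMC ?_).symm
    have h1 := Subgroup.card_dvd_of_le hPMC
    have h2 := Subgroup.card_dvd_of_le (inf_le_right : S.M ⊓ C ≤ C)
    rw [hP8] at h1 ⊢
    rw [hC24] at h2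
    rcases Nat.le_of_dvd (by norm_num) h2 |>.lt_or_eq with hlt | heq
    · obtain ⟨a, ha⟩ := h1
      rw [ha] at h2 hlt ⊢
      have : a < 3 := by omega
      interval_cases a <;> first | omega | (norm_num at h2)
    · exfalso
      have : S.M ⊓ C = C := Subgroup.eq_of_le_of_card_ge inf_le_right (by rw [heq, hC24])
      exact four_not_le S hns (inf_eq_right.1 this)
  haveI hsimp := S.isSimple_M hns
  let T : Sylow 2 S.M := S.P.subtype S.P_le_M
  have hTcard : Nat.card T = 8 :=
    (Nat.card_congr (subgroupOfEquivOfLe S.P_le_M).toEquiv).trans hP8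
  have hnc : ¬ IsCyclic (T : Subgroup S.M) := by
    intro hc
    obtain ⟨g, hg⟩ := IsCyclic.exists_monoid_generator (α := (T : Subgroup S.M))
    have ho : orderOf g = 8 := by
      rw [orderOf_eq_card_of_forall_mem_powers hg]; exact hTcard
    have : g ^ 2 = 1 := Subtype.ext (Subtype.ext (by
      show ((g : S.M) : G) ^ 2 = 1
      rw [pow_two]; exact S.P_sq g.2))
    have := Nat.le_of_dvd two_pos (orderOf_dvd_of_pow_eq_one this)
    omega
  have hnn : ¬ (T : Subgroup S.M).Normal := by
    intro hn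
    rcases hn.eq_bot_or_eq_top with h | h
    · have : Nat.card T = 1 := by show Nat.card (T : Subgroup S.M) = 1; rw [h, Subgroup.card_bot]
      omega
    · refine S.not_normal_P hns ?_
      have : (S.P : Subgroup G) = S.M := le_antisymm S.P_le_M fun x hx => by
        have h' : (⟨x, hx⟩ : S.M) ∈ (T : Subgroup S.M) := h ▸ mem_top _
        exact h'
      rw [this]; infer_instance
  have hcent : ∀ t : S.M, orderOf t = 2 → IsMulCommutative (centralizer ({t} : Set S.M)) ∧
      ∀ c ∈ centralizer ({t} : Set S.M), c ^ 2 = 1 := by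
    intro t ht
    obtain ⟨x, hx, hxt⟩ := S.isConj_M hns (u := (t : G)) (by rw [Subgroup.orderOf_coe, ht])
    have key : ∀ c ∈ centralizer ({t} : Set S.M), x⁻¹ * (c : G) * x ∈ (S.P : Subgroup G) := by
      intro c hc
      have hc' : (c : G) * t = t * c := congrArg Subtype.val (mem_centralizer_singleton_iff.1 hc)
      rw [← hMC]
      refine mem_inf.2 ⟨mul_mem (mul_mem (inv_mem hx) c.2) hx, mem_centralizer_singleton_iff.2 ?_⟩
      calc x⁻¹ * (c : G) * x * S.J = x⁻¹ * ((c : G) * (x * S.J * x⁻¹)) * x := by group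
        _ = S.J * (x⁻¹ * (c : G) * x) := by rw [hxt, hc', ← hxt]; group
    refine ⟨⟨⟨fun a b => Subtype.ext (Subtype.ext ?_)⟩⟩, fun c hc => Subtype.ext ?_⟩
    · show ((a : S.M) : G) * (b : S.M) = (b : S.M) * (a : S.M)
      have h := S.P_comm (key _ a.2) (key _ b.2)
      calc ((a : S.M) : G) * (b : S.M) =
          x * (x⁻¹ * ((a : S.M) : G) * x * (x⁻¹ * ((b : S.M) : G) * x)) * x⁻¹ := by group
        _ = _ := by rw [h]; group
    · show (c : G) ^ 2 = 1
      have h := S.P_sq (key _ hc)
      calc (c : G) ^ 2 = x * (x⁻¹ * (c : G) * x * (x⁻¹ * (c : G) * x)) * x⁻¹ := by rw [pow_two]; group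
        _ = 1 := by rw [h]; group
  obtain ⟨F, iF, iFin, hF, ⟨φ⟩⟩ := H67.CAData.exists_iso_PSL (T := T) ⟨hnc, hnn, hcent⟩
  rw [hTcard] at hF
  refine ⟨F, iF, iFin, hF, ?_⟩
  have hMcard : Nat.card S.M = 504 := (Nat.card_congr φ.toEquiv).trans (card_PSL_eight hF)
  have hGcard : Nat.card G = 1512 := by
    have h1 : S.M.relIndex (S.M ⊔ C) = S.M.relIndex C := by
      rw [sup_comm, Subgroup.relIndex_sup_right]
    rw [hC, S.sup_eq_top hns, Subgroup.relIndex_top_right, ← hC] at h1
    have h2 := (S.M.subgroupOf C).card_mul_index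
    have h3 : Nat.card (S.M.subgroupOf C) = 8 := by
      rw [← inf_subgroupOf_right, Nat.card_congr (subgroupOfEquivOfLe inf_le_right).toEquiv, hMC, hP8]
    rw [h3, show (S.M.subgroupOf C).index = S.M.relIndex C from rfl, ← h1, hC24] at h2
    have h4 := S.M.index_mul_card
    rw [hMcard, show S.M.index = 3 by omega] at h4
    omega
  let ψ : G →* MulAut (Matrix.ProjectiveSpecialLinearGroup (Fin 2) F) :=
    (MulAut.congr φ).toMonoidHom.comp MulAut.conjNormal
  have hψ : Function.Injective ψ := by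
    refine (MulAut.congr φ).injective.comp ?_
    rw [← MonoidHom.ker_eq_bot_iff, eq_bot_iff]
    intro g hg
    rw [← S.centralizer_M hns]
    intro x hx
    have h := DFunLike.congr_fun (MonoidHom.mem_ker.1 hg) (⟨x, hx⟩ : S.M)
    have h' : g * x * g⁻¹ = x := congrArg Subtype.val h
    exact (mul_inv_eq_iff_eq_mul.1 h').symm
  haveI : Finite (MulAut (Matrix.ProjectiveSpecialLinearGroup (Fin 2) F)) :=
    Finite.of_injective (fun e => (e : _ → _)) DFunLike.coe_injective
  refine ⟨MulEquiv.ofBijective ψ ((Nat.bijective_iff_injective_and_card ψ).2 ⟨hψ, ?_⟩)⟩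
  have h1 := Nat.card_le_card_of_injective ψ hψ
  have h2 := card_mulAut_PSL_eight_le hF
  omega

end H16.CentDP
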