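import Cfsg.Agent.H16.CentDP.Basic

/-!
The normal closure of the involution.
-/

set_option autoImplicit false
set_option linter.style.haveILetI false

namespace H16.CentDP

open Subgroup

universe u

variable {G : Type u} [Group G] {m : ℕ} [Finite G] (S : Setup G m)

/-- The normal closure of the involution. -/
def Setup.M : Subgroup G := normalClosure ({S.J} : Set G)

instance Setup.M_normal : (Setup.M S).Normal := normalClosure_normal

omit [Finite G] in
theorem Setup.J_mem_M : S.J ∈ S.M := subset_normalClosure rfl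

theorem Setup.orderOf_two {x : G} (h : x * x = 1) (h1 : x ≠ 1) : orderOf x = 2 :=
  orderOf_eq_prime (by rwa [pow_two]) h1

theorem Setup.invol_mem_M {u : G} (hu : orderOf u = 2) : u ∈ S.M := by
  obtain ⟨g, rfl⟩ := S.isConj hu
  exact normalClosure_normal.conj_mem _ S.J_mem_M g

theorem Setup.P_le_M : (S.P : Subgroup G) ≤ S.M := by
  intro p hp
  by_cases h1 : p = 1
  · rw [h1]; exact one_mem _
  · exact S.invol_mem_M (Setup.orderOf_two (S.P_sq hp) h1)

theorem Setup.mem_of_normal {K : Subgroup G} (hK : K.Normal) (hne : K ≠ ⊥) : S.J ∈ K := by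
  have hev : ¬ Odd (Nat.card K) := fun h => hne (S.odd_normal hK h)
  haveI : Fact (Nat.Prime 2) := ⟨Nat.prime_two⟩
  obtain ⟨k, hk⟩ := exists_prime_orderOf_dvd_card' 2 (G := K)
    (even_iff_two_dvd.1 (Nat.not_odd_iff_even.1 hev))
  obtain ⟨g, hg⟩ := S.isConj (u := (k : G)) (by rw [Subgroup.orderOf_coe, hk])
  have := hK.conj_mem _ (hg ▸ k.2 : g * S.J * g⁻¹ ∈ K) g⁻¹
  rwa [inv_inv, show g⁻¹ * (g * S.J * g⁻¹) * g = S.J by group] at this

theorem Setup.exists_normalizer {u : G} (hu : u ∈ (S.P : Subgroup G)) (h1 : u ≠ 1) :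
    ∃ n ∈ normalizer ((S.P : Subgroup G) : Set G), n * S.J * n⁻¹ = u := by
  haveI : Fact (Nat.Prime 2) := ⟨Nat.prime_two⟩
  obtain ⟨g, hg⟩ := S.isConj (Setup.orderOf_two (S.P_sq hu) h1)
  exact H5.burnside_fusion_elem S.P (fun x hx => (S.comm x hx)) (fun x hx => S.P_comm hx hu) hg

theorem Setup.not_normal_P (hns : ¬ Group.IsSolvable G) : ¬ (S.P : Subgroup G).Normal := by
  intro hP
  apply hns
  haveI := hP
  have hO : Set.ncard {u : G | u ∈ (S.P : Subgroup G) ∧ u ≠ 1} = 7 := by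
    have h : {u : G | u ∈ (S.P : Subgroup G) ∧ u ≠ 1} = ((S.P : Subgroup G) : Set G) \ {1} := by
      ext; exact ⟨fun h => ⟨h.1, h.2⟩, fun h => ⟨h.1, h.2⟩⟩
    rw [h, Set.ncard_diff_singleton_of_mem (one_mem _), ← Nat.card_coe_set_eq]
    show Nat.card (S.P : Subgroup G) - 1 = 7
    rw [S.card_P]
  have horb : MulAction.orbit (ConjAct G) S.J = {u : G | u ∈ (S.P : Subgroup G) ∧ u ≠ 1} := by
    ext u
    rw [ConjAct.mem_orbit_conjAct, isConj_comm, isConj_iff]
    constructor
    · rintro ⟨g, rfl⟩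
      exact ⟨hP.conj_mem _ S.memP g, fun h => S.J_ne (conj_eq_one_iff.1 h)⟩
    · rintro ⟨hu, h1⟩
      exact S.isConj (Setup.orderOf_two (S.P_sq hu) h1)
  have hidx : (centralizer ({S.J} : Set G)).index = 7 := by
    rw [← hO, ← horb, ← MulAction.index_stabilizer]
    refine congrArg Subgroup.index ?_
    ext g
    rw [mem_centralizer_singleton_iff]
    exact ⟨fun h => show g * S.J * g⁻¹ = S.J from mul_inv_eq_iff_eq_mul.2 h,
      fun h => mul_inv_eq_iff_eq_mul.1 (show g * S.J * g⁻¹ = S.J from h)⟩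
  have hG := (centralizer ({S.J} : Set G)).index_mul_card
  rw [hidx, S.card_cent] at hG
  have hq : Squarefree (Nat.card (G ⧸ (S.P : Subgroup G))) := by
    have h := Subgroup.card_eq_card_quotient_mul_card_subgroup (S.P : Subgroup G)
    rw [← hG, S.card_P] at h
    rcases S.small.card with h' | h' <;> rw [h'] at h
    · rw [show Nat.card (G ⧸ (S.P : Subgroup G)) = 21 by omega]
      rw [Nat.squarefree_iff_nodup_primeFactorsList (by norm_num)]
      simp
    · rw [show Nat.card (G ⧸ (S.P : Subgroup G)) = 105 by omega]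
      rw [Nat.squarefree_iff_nodup_primeFactorsList (by norm_num)]
      simp
  haveI : Group.IsSolvable (S.P : Subgroup G) :=
    Group.isSolvable_of_comm fun a b => Subtype.ext (S.P_comm a.2 b.2)
  haveI := IsZGroup.of_squarefree hq
  exact Group.isSolvable_of_ker_le_range (S.P : Subgroup G).subtype (QuotientGroup.mk' (S.P : Subgroup G))
    (by rw [QuotientGroup.ker_mk', Subgroup.range_subtype])

theorem Setup.centralizer_M (hns : ¬ Group.IsSolvable G) : centralizer (S.M : Set G) = ⊥ := by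
  by_contra hne
  have hJ := S.mem_of_normal inferInstance hne
  have hu : ∀ u : G, orderOf u = 2 → u ∈ (S.P : Subgroup G) := by
    intro u hu
    refine S.cent_P fun p hp => ?_
    by_cases h1 : p = 1
    · simp [h1]
    obtain ⟨g, rfl⟩ := S.isConj (Setup.orderOf_two (S.P_sq hp) h1)
    have h := (inferInstance : (centralizer (S.M : Set G)).Normal).conj_mem _ hJ g
    exact h u (S.invol_mem_M hu)
  refine S.not_normal_P hns ⟨fun p hp g => ?_⟩
  by_cases h1 : p = 1
  · simp [h1]
  refine hu _ ?_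
  rw [show g * p * g⁻¹ = MulAut.conj g p from rfl, MulEquiv.orderOf_eq]
  exact Setup.orderOf_two (S.P_sq hp) h1

/-- An odd subgroup of `M` normalised by `M` is trivial. -/
theorem Setup.odd_core {K : Subgroup S.M} (hK : K.Normal) (hodd : Odd (Nat.card K)) : K = ⊥ := by
  classical
  haveI : Fintype (Subgroup S.M) := Fintype.ofFinite _
  obtain ⟨L, hL, hmax⟩ := (Finset.univ.filter fun L : Subgroup S.M => L.Normal ∧ Odd (Nat.card L)
    ).exists_max_image (fun L => Nat.card L) ⟨K, Finset.mem_filter.2 ⟨Finset.mem_univ _, hK, hodd⟩⟩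
  simp only [Finset.mem_filter, Finset.mem_univ, true_and] at hL hmax
  have hsup : ∀ A : Subgroup S.M, A.Normal → Odd (Nat.card A) → A ≤ L := by
    intro A hA hAo
    haveI := hL.1
    haveI := hA
    have hd : Nat.card (L ⊔ A : Subgroup S.M) ∣ Nat.card L * Nat.card A := by
      have h1 : L.relIndex (A ⊔ L) = L.relIndex A := Subgroup.relIndex_sup_right A L
      have h2 := (L.subgroupOf (A ⊔ L)).card_mul_index
      rw [Nat.card_congr (subgroupOfEquivOfLe (le_sup_right (a := A))).toEquiv] at h2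
      rw [sup_comm L A, ← h2, show (L.subgroupOf (A ⊔ L)).index = L.relIndex (A ⊔ L) from rfl, h1]
      exact Nat.mul_dvd_mul_left _ (Subgroup.relIndex_dvd_card L A)
    have := hmax (L ⊔ A) ⟨inferInstance, (hL.2.mul hAo).of_dvd_nat hd⟩
    exact le_sup_right.trans (Subgroup.eq_of_le_of_card_ge le_sup_left this).ge
  have hbot : L.map S.M.subtype = ⊥ := by
    refine S.odd_normal ⟨?_⟩ ?_
    · rintro _ ⟨x, hx, rfl⟩ g
      let φ : S.M ≃* S.M := MulAut.conjNormal g
      have h1 : (L.map φ.toMonoidHom) ≤ L := hsup _ (hL.1.map _ φ.surjective) (by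
        rw [← Nat.card_congr (L.equivMapOfInjective φ.toMonoidHom φ.injective).toEquiv]; exact hL.2)
      exact ⟨φ x, h1 ⟨x, hx, rfl⟩, MulAut.conjNormal_apply g x⟩
    · rw [← Nat.card_congr (L.equivMapOfInjective S.M.subtype S.M.subtype_injective).toEquiv]
      exact hL.2
  have : L = ⊥ := (Subgroup.map_eq_bot_iff_of_injective _ S.M.subtype_injective).1 hbot
  exact le_bot_iff.1 (this ▸ hsup K hK hodd)

/-- The normaliser in `M` of the Sylow subgroup is transitive on its involutions. -/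
theorem Setup.fusion_M (hns : ¬ Group.IsSolvable G) {u : G} (hu : u ∈ (S.P : Subgroup G)) (h1 : u ≠ 1) :
    ∃ h ∈ S.M ⊓ normalizer ((S.P : Subgroup G) : Set G), h * S.J * h⁻¹ = u := by
  classical
  haveI : Fact (Nat.Prime 2) := ⟨Nat.prime_two⟩
  set N := normalizer ((S.P : Subgroup G) : Set G) with hN
  let O := {x : G // x ∈ (S.P : Subgroup G) ∧ x ≠ 1}
  let act : MulAction N O :=
    { smul := fun n x => ⟨(n : G) * x.1 * (n : G)⁻¹, (mem_normalizer_iff.1 n.2 x.1).1 x.2.1,
        fun h => x.2.2 (conj_eq_one_iff.1 h)⟩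
      one_smul := fun x => Subtype.ext (by show (1 : G) * x.1 * (1 : G)⁻¹ = x.1; group)
      mul_smul := fun a b x => Subtype.ext (by
        show ((a : G) * b) * x.1 * ((a : G) * b)⁻¹ = a * ((b : G) * x.1 * (b : G)⁻¹) * (a : G)⁻¹
        group) }
  letI := act
  let j : O := ⟨S.J, S.memP, S.J_ne⟩
  haveI : MulAction.IsPretransitive N O := by
    refine ⟨fun a b => ?_⟩
    obtain ⟨n, hn, hna⟩ := S.exists_normalizer a.2.1 a.2.2
    obtain ⟨k, hk, hkb⟩ := S.exists_normalizer b.2.1 b.2.2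
    refine ⟨⟨k * n⁻¹, mul_mem hk (inv_mem hn)⟩, Subtype.ext ?_⟩
    show k * n⁻¹ * a.1 * (k * n⁻¹)⁻¹ = b.1
    rw [← hna, ← hkb]; group
  have hO : Nat.card O = 7 := by
    have h : Nat.card O + 1 = Nat.card (S.P : Subgroup G) := by
      rw [← Finite.card_option]
      refine Nat.card_congr
        { toFun := fun o => o.elim 1 fun x => ⟨x.1, x.2.1⟩
          invFun := fun y => if h : (y : G) = 1 then none else some ⟨y.1, y.2, h⟩
          left_inv := fun o => by
            cases o with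
            | none => simp
            | some x => simp [x.2.2]
          right_inv := fun y => by
            by_cases h : (y : G) = 1
            · simp only [h, dif_pos, Option.elim_none]; exact Subtype.ext h.symm
            · simp [h] }
    rw [S.card_P] at h; omega
  set H : Subgroup N := S.M.subgroupOf N with hH
  haveI : H.Normal := inferInstanceAs (S.M.subgroupOf N).Normal
  haveI : MulAction.IsPreprimitive N O := MulAction.IsPreprimitive.of_prime_card (by rw [hO]; norm_num)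
  by_cases hfix : MulAction.fixedPoints H O = Set.univ
  · exfalso
    have hcen : ∀ h ∈ S.M, h ∈ N → h ∈ (S.P : Subgroup G) := by
      intro h hhM hhN
      refine S.cent_P fun p hp => ?_
      by_cases hp1 : p = 1
      · simp [hp1]
      have : (⟨p, hp, hp1⟩ : O) ∈ MulAction.fixedPoints H O := hfix ▸ Set.mem_univ _
      have e : h * p * h⁻¹ = p := congrArg Subtype.val (this ⟨⟨h, hhN⟩, hhM⟩)
      exact mul_inv_eq_iff_eq_mul.1 e
    let Q : Sylow 2 S.M := S.P.subtype S.P_le_M
    have hQ : normalizer ((Q : Subgroup S.M) : Set S.M) ≤ centralizer (Q : Set S.M) := by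
      intro x hx
      rw [mem_normalizer_iff] at hx
      have hxN : (x : G) ∈ N := by
        rw [hN, mem_normalizer_iff]
        intro p
        constructor
        · intro hp
          exact (hx ⟨p, S.P_le_M hp⟩).1 hp
        · intro hp
          have hpM : p ∈ S.M := by
            have := (inferInstance : S.M.Normal).conj_mem _ (S.P_le_M hp) (x : G)⁻¹
            simpa [mul_assoc] using this
          exact (hx ⟨p, hpM⟩).2 hp
      intro y hy
      exact Subtype.ext (S.P_comm hy (hcen _ x.2 hxN))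
    haveI : IsMulCommutative (Q : Subgroup S.M) :=
      ⟨⟨fun a b => Subtype.ext (Subtype.ext (S.P_comm a.2 b.2))⟩⟩
    have hcomp := MonoidHom.ker_transferSylow_isComplement' Q hQ
    set K := (MonoidHom.transferSylow Q hQ).ker
    have hKo : Odd (Nat.card K) := by
      rw [show Nat.card K = (Q : Subgroup S.M).index from hcomp.index_eq_card.symm, ← Nat.not_even_iff_odd, even_iff_two_dvd]
      exact Q.not_dvd_index
    have hK := S.odd_core (K := K) inferInstance hKo
    have hQtop : (Q : Subgroup S.M) = ⊤ := by rw [hK] at hcomp; exact isComplement'_bot_left.1 hcomp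
    apply S.not_normal_P hns
    have : (S.P : Subgroup G) = S.M := le_antisymm S.P_le_M fun x hx => by
      have h : (⟨x, hx⟩ : S.M) ∈ (Q : Subgroup S.M) := hQtop ▸ mem_top _
      exact h
    rw [this]; infer_instance
  · haveI : MulAction.IsPretransitive H O :=
      MulAction.IsQuasiPreprimitive.isPretransitive_of_normal hfix
    obtain ⟨h, hh⟩ := MulAction.exists_smul_eq H j ⟨u, hu, h1⟩
    exact ⟨((h : N) : G), mem_inf.2 ⟨h.2, (h : N).2⟩, congrArg Subtype.val hh⟩

/-- All involutions are conjugate in `M`. -/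
theorem Setup.isConj_M (hns : ¬ Group.IsSolvable G) {u : G} (hu : orderOf u = 2) :
    ∃ x ∈ S.M, x * S.J * x⁻¹ = u := by
  haveI : Fact (Nat.Prime 2) := ⟨Nat.prime_two⟩
  let uM : S.M := ⟨u, S.invol_mem_M hu⟩
  obtain ⟨Q, hQ⟩ := (IsPGroup.of_card (G := zpowers uM) (p := 2) (n := 1)
    (by rw [Nat.card_zpowers, Subgroup.orderOf_mk, hu]; rfl)).exists_le_sylow
  obtain ⟨a, ha⟩ := MulAction.exists_smul_eq S.M Q (S.P.subtype S.P_le_M)
  have hmem : a * uM * a⁻¹ ∈ ((a • Q : Sylow 2 S.M) : Subgroup S.M) :=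
    ⟨uM, hQ (mem_zpowers _), rfl⟩
  rw [ha] at hmem
  have hP : (a : G) * u * (a : G)⁻¹ ∈ (S.P : Subgroup G) := hmem
  have h1 : (a : G) * u * (a : G)⁻¹ ≠ 1 := fun h => by
    rw [conj_eq_one_iff] at h; rw [h, orderOf_one] at hu; norm_num at hu
  obtain ⟨x, hx, hxu⟩ := S.fusion_M hns hP h1
  refine ⟨(a : G)⁻¹ * x, mul_mem (inv_mem a.2) (mem_inf.1 hx).1, ?_⟩
  rw [show (a : G)⁻¹ * x * S.J * ((a : G)⁻¹ * x)⁻¹ = (a : G)⁻¹ * (x * S.J * x⁻¹) * a by group, hxu]
  group

theorem Setup.sup_eq_top (hns : ¬ Group.IsSolvable G) :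
    S.M ⊔ centralizer ({S.J} : Set G) = ⊤ := by
  rw [eq_top_iff]
  intro g _
  obtain ⟨x, hx, hxg⟩ := S.isConj_M hns (u := g * S.J * g⁻¹)
    (by rw [show g * S.J * g⁻¹ = MulAut.conj g S.J from rfl, MulEquiv.orderOf_eq, S.ord])
  have hc : x⁻¹ * g ∈ centralizer ({S.J} : Set G) := by
    rw [mem_centralizer_singleton_iff]
    calc x⁻¹ * g * S.J = x⁻¹ * (g * S.J * g⁻¹) * g := by group
      _ = S.J * (x⁻¹ * g) := by rw [← hxg]; group
  have := mul_mem_sup hx hc
  rwa [mul_inv_cancel_left] at this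

theorem Setup.isSimple_M (hns : ¬ Group.IsSolvable G) : IsSimpleGroup S.M := by
  haveI : Fact (Nat.Prime 2) := ⟨Nat.prime_two⟩
  haveI : Nontrivial S.M := ⟨⟨⟨S.J, S.J_mem_M⟩, 1, fun h => S.J_ne (congrArg Subtype.val h)⟩⟩
  refine ⟨fun K hK => or_iff_not_imp_left.2 fun hne => ?_⟩
  have hev : ¬ Odd (Nat.card K) := fun h => hne (S.odd_core hK h)
  obtain ⟨k, hk⟩ := exists_prime_orderOf_dvd_card' 2 (G := K)
    (even_iff_two_dvd.1 (Nat.not_odd_iff_even.1 hev))
  obtain ⟨x, hx, hxu⟩ := S.isConj_M hns (u := ((k : S.M) : G))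
    (by rw [Subgroup.orderOf_coe, Subgroup.orderOf_coe, hk])
  have hJ : (⟨S.J, S.J_mem_M⟩ : S.M) ∈ K := by
    have h := hK.conj_mem _ k.2 (⟨x, hx⟩ : S.M)⁻¹
    have e : (⟨x, hx⟩ : S.M)⁻¹ * (k : S.M) * (⟨x, hx⟩ : S.M)⁻¹⁻¹ = ⟨S.J, S.J_mem_M⟩ := by
      refine Subtype.ext ?_
      show x⁻¹ * ((k : S.M) : G) * x⁻¹⁻¹ = S.J
      rw [← hxu]; group
    rwa [e] at h
  have hall : ∀ u : G, orderOf u = 2 → u ∈ K.map S.M.subtype := fun u hu => by
    obtain ⟨y, hy, rfl⟩ := S.isConj_M hns hu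
    exact ⟨⟨y, hy⟩ * ⟨S.J, S.J_mem_M⟩ * (⟨y, hy⟩ : S.M)⁻¹, hK.conj_mem _ hJ _, rfl⟩
  have hle : S.M ≤ K.map S.M.subtype := by
    refine (Subgroup.closure_le _).2 ?_
    intro y hy
    rw [Group.mem_conjugatesOfSet_iff] at hy
    obtain ⟨a, ha, hay⟩ := hy
    rw [Set.mem_singleton_iff] at ha
    subst ha
    obtain ⟨g, rfl⟩ := isConj_iff.1 hay
    exact hall _ (by rw [show g * S.J * g⁻¹ = MulAut.conj g S.J from rfl, MulEquiv.orderOf_eq, S.ord])
  rw [eq_top_iff]
  intro y _
  obtain ⟨z, hz, hzy⟩ := hle y.2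
  rwa [← (Subtype.ext hzy : z = y)]

end H16.CentDP
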