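import Mathlib

/-!
Involutions of alternating groups of degree at least six lie in the derived subgroup of their
centraliser; finite facts on the degrees four and five.
-/

set_option autoImplicit false

namespace H16.CentDP

open Equiv Subgroup

variable {α : Type*} [Fintype α] [DecidableEq α]

theorem double_transposition_comm (h6 : 6 ≤ Fintype.card α) (x : Perm α) (hx : x * x = 1)
    {a b c d : α} (hab : x a = b) (hcd : x c = d) (hne : a ≠ b) (hne' : c ≠ d)
    (hca : c ≠ a) (hcb : c ≠ b) :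
    ∃ p q : Perm α, (x * p = p * x ∧ Perm.sign p = 1) ∧ (x * q = q * x ∧ Perm.sign q = 1) ∧
      p * q * p⁻¹ * q⁻¹ = swap a b * swap c d := by
  have hinv : ∀ e, x (x e) = e := fun e => by
    rw [← Perm.mul_apply, hx, Perm.one_apply]
  have hba : x b = a := by rw [← hab, hinv]
  have hdc : x d = c := by rw [← hcd, hinv]
  have hda : d ≠ a := fun h => hcb (by rw [← hdc, h, hab])
  have hdb : d ≠ b := fun h => hca (by rw [← hdc, h, hba])
  -- a further transposition commuting with `x`
  obtain ⟨u, w, huw, hu, hw, hcomm⟩ : ∃ u w : α, u ≠ w ∧ (u ≠ a ∧ u ≠ b ∧ u ≠ c ∧ u ≠ d) ∧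
      (w ≠ a ∧ w ≠ b ∧ w ≠ c ∧ w ≠ d) ∧ x * swap u w = swap u w * x := by
    set R : Finset α := Finset.univ \ {a, b, c, d} with hR
    have memR : ∀ e, e ∈ R ↔ (e ≠ a ∧ e ≠ b ∧ e ≠ c ∧ e ≠ d) := fun e => by simp [hR, not_or]
    have hcard : 1 < R.card := by
      have h1 : ({a, b, c, d} : Finset α).card ≤ 4 := Finset.card_le_four
      have h2 := Finset.le_card_sdiff ({a, b, c, d} : Finset α) Finset.univ
      rw [Finset.card_univ] at h2
      rw [hR]
      omega
    by_cases h : ∃ e ∈ R, x e ≠ e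
    · obtain ⟨e, he, hxe⟩ := h
      rw [memR] at he
      refine ⟨e, x e, Ne.symm hxe, he, ?_, ?_⟩
      · refine ⟨fun h => he.2.1 ?_, fun h => he.1 ?_, fun h => he.2.2.2 ?_, fun h => he.2.2.1 ?_⟩ <;>
          (rw [← hinv e, h]; assumption)
      · rw [mul_swap_eq_swap_mul, hinv, swap_comm]
    · push Not at h
      obtain ⟨u, hu, w, hw, huw⟩ := Finset.one_lt_card.1 hcard
      refine ⟨u, w, huw, (memR u).1 hu, (memR w).1 hw, ?_⟩
      rw [mul_swap_eq_swap_mul, h u hu, h w hw]
  have c1 : swap b d * swap a c = swap a c * swap b d := by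
    rw [mul_swap_eq_swap_mul, swap_apply_of_ne_of_ne hne (Ne.symm hda),
      swap_apply_of_ne_of_ne hcb hne']
  refine ⟨swap a b * swap u w, swap a c * swap b d, ⟨?_, ?_⟩, ⟨?_, ?_⟩, ?_⟩
  · rw [← mul_assoc, mul_swap_eq_swap_mul x a b, hab, hba, swap_comm b a, mul_assoc, hcomm, ← mul_assoc]
  · rw [map_mul, Perm.sign_swap hne, Perm.sign_swap huw]; decide
  · rw [← mul_assoc, mul_swap_eq_swap_mul x a c, hab, hcd, mul_assoc, mul_swap_eq_swap_mul x b d, hba, hdc,
      ← mul_assoc, c1]
  · rw [map_mul, Perm.sign_swap hca.symm, Perm.sign_swap hdb.symm]; decide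
  · set p : Perm α := swap a b * swap u w with hp
    have pa : p a = b := by
      rw [hp, Perm.mul_apply, swap_apply_of_ne_of_ne hu.1.symm hw.1.symm, swap_apply_left]
    have pb : p b = a := by
      rw [hp, Perm.mul_apply, swap_apply_of_ne_of_ne hu.2.1.symm hw.2.1.symm, swap_apply_right]
    have pc : p c = c := by
      rw [hp, Perm.mul_apply, swap_apply_of_ne_of_ne hu.2.2.1.symm hw.2.2.1.symm,
        swap_apply_of_ne_of_ne hca hcb]
    have pd : p d = d := by
      rw [hp, Perm.mul_apply, swap_apply_of_ne_of_ne hu.2.2.2.symm hw.2.2.2.symm,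
        swap_apply_of_ne_of_ne hda hdb]
    rw [← mul_assoc, mul_swap_eq_swap_mul p a c, pa, pc, mul_assoc (swap b c), mul_swap_eq_swap_mul p b d, pb, pd,
      show swap b c * (swap a d * p) * p⁻¹ = swap b c * swap a d by group, mul_inv_rev, swap_inv,
      swap_inv, ← mul_assoc]
    refine Equiv.ext fun e => ?_
    simp only [Perm.mul_apply]
    by_cases ea : e = a
    · subst ea; simp [swap_apply_def, hne, hne', hca, hcb, hda, hdb, hne.symm, hne'.symm, hca.symm, hcb.symm,
        hda.symm, hdb.symm]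
    by_cases eb : e = b
    · subst eb; simp [swap_apply_def, hne, hne', hca, hcb, hda, hdb, hne.symm, hne'.symm, hca.symm, hcb.symm,
        hda.symm, hdb.symm]
    by_cases ec : e = c
    · subst ec; simp [swap_apply_def, hne, hne', hca, hcb, hda, hdb, hne.symm, hne'.symm, hca.symm, hcb.symm,
        hda.symm, hdb.symm]
    by_cases ed : e = d
    · subst ed; simp [swap_apply_def, hne, hne', hca, hcb, hda, hdb, hne.symm, hne'.symm, hca.symm, hcb.symm,
        hda.symm, hdb.symm]
    simp [swap_apply_def, ea, eb, ec, ed]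

/-- An involution of an alternating group of degree at least six lies in the derived subgroup of
its centraliser. -/
theorem invol_mem_commutator (h6 : 6 ≤ Fintype.card α) (x : alternatingGroup α) (hx : x * x = 1) :
    x ∈ ⁅centralizer ({x} : Set (alternatingGroup α)), centralizer ({x} : Set (alternatingGroup α))⁆ := by
  set C := centralizer ({x} : Set (alternatingGroup α))
  set K : Subgroup (Perm α) := ⁅C.map (alternatingGroup α).subtype, C.map (alternatingGroup α).subtype⁆
    with hK
  have hmem : ∀ p : Perm α, (x : Perm α) * p = p * x → Perm.sign p = 1 →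
      p ∈ C.map (alternatingGroup α).subtype := fun p h1 h2 =>
    ⟨⟨p, Perm.mem_alternatingGroup.2 h2⟩, mem_centralizer_singleton_iff.2 (Subtype.ext h1.symm), rfl⟩
  have hxx : (x : Perm α) * x = 1 := congrArg Subtype.val hx
  suffices h : ∀ (n : ℕ) (z : Perm α), z.support.card = n →
      (∀ a, z a = a ∨ z a = (x : Perm α) a) → Perm.sign z = 1 → z ∈ K by
    have := h _ (x : Perm α) rfl (fun a => Or.inr rfl) (Perm.mem_alternatingGroup.1 x.2)
    rw [hK, ← map_commutator] at this
    obtain ⟨y, hy, hyx⟩ := this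
    rwa [← (Subtype.ext hyx : y = x)]
  intro n
  induction n using Nat.strong_induction_on with
  | _ n ih =>
    intro z hn hz hs
    by_cases h1 : z = 1
    · subst h1; exact one_mem _
    have hinv : ∀ e, (x : Perm α) ((x : Perm α) e) = e := fun e => by
      rw [← Perm.mul_apply, hxx, Perm.one_apply]
    have hback : ∀ a, z a ≠ a → z ((x : Perm α) a) = a := by
      intro a ha
      have hxa : z a = (x : Perm α) a := (hz a).resolve_left ha
      rcases hz ((x : Perm α) a) with h | h
      · exact absurd (z.injective (hxa.trans h.symm)) fun e => ha (hxa.trans e.symm)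
      · rw [h, hinv]
    obtain ⟨a, ha⟩ : ∃ a, z a ≠ a := by
      by_contra h; push Not at h; exact h1 (Equiv.ext h)
    have hab : z a = (x : Perm α) a := (hz a).resolve_left ha
    set b := z a with hb
    have hzb : z b = a := by rw [hab]; exact hback a ha
    obtain ⟨c, hca, hcb, hc⟩ : ∃ c, c ≠ a ∧ c ≠ b ∧ z c ≠ c := by
      by_contra h
      push Not at h
      have : z = swap a b := Equiv.ext fun e => by
        by_cases e1 : e = a
        · rw [e1, swap_apply_left]
        by_cases e2 : e = b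
        · rw [e2, swap_apply_right, hzb]
        rw [swap_apply_of_ne_of_ne e1 e2, h e e1 e2]
      rw [this, Perm.sign_swap (Ne.symm ha)] at hs
      exact absurd hs (by decide)
    have hcd : z c = (x : Perm α) c := (hz c).resolve_left hc
    set d := z c with hd
    have hzd : z d = c := by rw [hcd]; exact hback c hc
    obtain ⟨p, q, hp, hq, hpq⟩ := double_transposition_comm h6 (x : Perm α) hxx hab.symm hcd.symm
      (Ne.symm ha) (Ne.symm hc) hca hcb
    set y : Perm α := swap a b * swap c d with hy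
    have hyK : y ∈ K := by
      rw [← hpq, hK]
      exact commutator_mem_commutator (hmem p hp.1 hp.2) (hmem q hq.1 hq.2)
    have hda : d ≠ a := fun h => hcb (by rw [← hzd, h])
    have hdb : d ≠ b := fun h => hca (by rw [← hzd, h, hzb])
    have hya : y b = a := by
      rw [hy, Perm.mul_apply, swap_apply_of_ne_of_ne hcb.symm (Ne.symm hdb), swap_apply_right]
    have hyb : y a = b := by
      rw [hy, Perm.mul_apply, swap_apply_of_ne_of_ne hca.symm (Ne.symm hda), swap_apply_left]
    have hyc : y d = c := by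
      rw [hy, Perm.mul_apply, swap_apply_right, swap_apply_of_ne_of_ne hca hcb]
    have hyd : y c = d := by
      rw [hy, Perm.mul_apply, swap_apply_left, swap_apply_of_ne_of_ne hda hdb]
    have hrest : ∀ e, (e = a ∨ e = b ∨ e = c ∨ e = d) ∨ (y * z) e = z e := by
      intro e
      by_cases he : e = a ∨ e = b ∨ e = c ∨ e = d
      · exact Or.inl he
      · simp only [not_or] at he
        refine Or.inr ?_
        have n1 : z e ≠ a := fun h => he.2.1 (z.injective (h.trans hzb.symm))
        have n2 : z e ≠ b := fun h => he.1 (z.injective (h.trans hb))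
        have n3 : z e ≠ c := fun h => he.2.2.2 (z.injective (h.trans hzd.symm))
        have n4 : z e ≠ d := fun h => he.2.2.1 (z.injective (h.trans hd))
        rw [hy, Perm.mul_apply, Perm.mul_apply, swap_apply_of_ne_of_ne n3 n4,
          swap_apply_of_ne_of_ne n1 n2]
    have hfour : ∀ e, (e = a ∨ e = b ∨ e = c ∨ e = d) → (y * z) e = e := by
      rintro e (rfl | rfl | rfl | rfl) <;> rw [Perm.mul_apply]
      · rw [← hb, hya]
      · rw [hzb, hyb]
      · rw [← hd, hyc]
      · rw [hzd, hyd]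
    have hsub : (y * z).support ⊆ z.support.erase a := by
      intro e he
      rw [Perm.mem_support] at he
      rcases hrest e with h | h
      · exact absurd (hfour e h) he
      · rw [Finset.mem_erase, Perm.mem_support, ← h]
        exact ⟨fun e1 => he (hfour e (Or.inl e1)), he⟩
    have hlt : (y * z).support.card < n := by
      rw [← hn]
      exact (Finset.card_le_card hsub).trans_lt
        (Finset.card_erase_lt_of_mem (Perm.mem_support.2 ha))
    have h' := ih _ hlt (y * z) rfl (fun e => by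
      rcases hrest e with h | h
      · exact Or.inl (hfour e h)
      · rw [h]; exact hz e) (by
        rw [map_mul, hs, hy, map_mul, Perm.sign_swap (Ne.symm ha), Perm.sign_swap (Ne.symm hc)]; decide)
    have := mul_mem (inv_mem hyK) h'
    rwa [inv_mul_cancel_left] at this

/-- The facts used about a small alternating group. -/
structure Small (m : ℕ) : Prop where
  card : Nat.card (alternatingGroup (Fin m)) = 12 ∨ Nat.card (alternatingGroup (Fin m)) = 60
  two_elt : ∀ b : alternatingGroup (Fin m), b ^ 8 = 1 → b ^ 2 = 1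
  conj : ∀ v w : alternatingGroup (Fin m), v ^ 2 = 1 → v ≠ 1 → w ^ 2 = 1 → w ≠ 1 →
    ∃ c, c * v * c⁻¹ = w
  cent : ∀ v w : alternatingGroup (Fin m), (v ^ 2 = 1 ∧ v ≠ 1 ∧ w ^ 2 = 1 ∧ w ≠ 1 ∧ v ≠ w ∧
    v * w = w * v) → ∀ b : alternatingGroup (Fin m), (b * v = v * b ∧ b * w = w * b) → b ^ 2 = 1
  odd : ∀ b : alternatingGroup (Fin m), b ^ 2 ≠ 1 →
    ∃ c, ((c * b * c⁻¹ * b⁻¹) ^ 2 = 1 ∧ c * b * c⁻¹ * b⁻¹ ≠ 1) ∨
      ∃ d, ((d * (c * b * c⁻¹ * b⁻¹) * d⁻¹ * (c * b * c⁻¹ * b⁻¹)⁻¹) ^ 2 = 1 ∧
        d * (c * b * c⁻¹ * b⁻¹) * d⁻¹ * (c * b * c⁻¹ * b⁻¹)⁻¹ ≠ 1)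

/-- Assembly of `Small` from facts that are fast to check. -/
theorem small_mk {m : ℕ} (v₀ : alternatingGroup (Fin m)) (hv0 : v₀ ^ 2 = 1 ∧ v₀ ≠ 1)
    (hcard : Nat.card (alternatingGroup (Fin m)) = 12 ∨ Nat.card (alternatingGroup (Fin m)) = 60)
    (h8 : ∀ b : alternatingGroup (Fin m), b ^ 8 = 1 → b ^ 2 = 1)
    (hconj : ∀ v : alternatingGroup (Fin m), v ^ 2 = 1 → v ≠ 1 → ∃ c, c * v₀ * c⁻¹ = v)
    (hcent : ∀ w : alternatingGroup (Fin m), (w ^ 2 = 1 ∧ w ≠ 1 ∧ v₀ ≠ w ∧ v₀ * w = w * v₀) →
      ∀ b : alternatingGroup (Fin m), b * v₀ = v₀ * b → b * w = w * b → b ^ 2 = 1)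
    (hthree : ∀ b : alternatingGroup (Fin m), b ^ 3 = 1 → b ≠ 1 →
      ∃ c, (c * b * c⁻¹ * b⁻¹) ^ 2 = 1 ∧ c * b * c⁻¹ * b⁻¹ ≠ 1)
    (hodd : ∀ b : alternatingGroup (Fin m), b ^ 2 ≠ 1 →
      b ^ 3 = 1 ∨ ∃ c, (c * b * c⁻¹ * b⁻¹) ^ 3 = 1 ∧ c * b * c⁻¹ * b⁻¹ ≠ 1) : Small m := by
  refine ⟨hcard, h8, ?_, ?_, ?_⟩
  · intro v w hv hv1 hw hw1
    obtain ⟨c, rfl⟩ := hconj v hv hv1
    obtain ⟨d, rfl⟩ := hconj w hw hw1
    exact ⟨d * c⁻¹, by group⟩
  · rintro v w ⟨hv, hv1, hw, hw1, hvw, hc⟩ b ⟨hbv, hbw⟩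
    obtain ⟨c, rfl⟩ := hconj v hv hv1
    let φ : alternatingGroup (Fin m) ≃* alternatingGroup (Fin m) := MulAut.conj c⁻¹
    have hφ : φ (c * v₀ * c⁻¹) = v₀ := by
      simp only [φ, MulAut.conj_apply]; group
    have h := hcent (φ w) ⟨by rw [← map_pow, hw, map_one],
      fun h => hw1 (φ.injective (h.trans (map_one φ).symm)),
      fun h => hvw (φ.injective (hφ.trans h)),
      by rw [← hφ, ← map_mul, hc, map_mul]⟩ (φ b) (by rw [← hφ, ← map_mul, hbv, map_mul])
      (by rw [← map_mul, hbw, map_mul])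
    rw [← map_pow] at h
    exact φ.injective (h.trans (map_one φ).symm)
  · intro b hb
    rcases hodd b hb with h | ⟨c, h, h1⟩
    · obtain ⟨c, hc⟩ := hthree b h (fun e => hb (by rw [e, one_pow]))
      exact ⟨c, Or.inl hc⟩
    · obtain ⟨d, hd⟩ := hthree _ h h1
      exact ⟨c, Or.inr ⟨d, hd⟩⟩

/-- The double transposition fixing the points from the fifth on. -/
def dbl (m : ℕ) (h : 4 ≤ m) : alternatingGroup (Fin m) :=
  ⟨swap ⟨0, by omega⟩ ⟨1, by omega⟩ * swap ⟨2, by omega⟩ ⟨3, by omega⟩, Perm.mem_alternatingGroup.2 (by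
    rw [map_mul, Perm.sign_swap (by simp [Fin.ext_iff]), Perm.sign_swap (by simp [Fin.ext_iff])]
    decide)⟩

theorem small_four : Small 4 :=
  small_mk (dbl 4 le_rfl) (by decide +kernel) (Or.inl (by rw [Nat.card_eq_fintype_card]; decide +kernel))
    (by decide +kernel) (by decide +kernel) (by decide +kernel) (by decide +kernel) (by decide +kernel)

theorem small_five : Small 5 :=
  small_mk (dbl 5 (by norm_num)) (by decide +kernel)
    (Or.inr (by rw [Nat.card_eq_fintype_card]; decide +kernel))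
    (by decide +kernel) (by decide +kernel) (by decide +kernel) (by decide +kernel) (by decide +kernel)

theorem four_invol_card : (Finset.univ.filter fun b : alternatingGroup (Fin 4) => b ^ 2 = 1).card = 4 := by
  decide +kernel

end H16.CentDP
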